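import Groth.Agent.S4889
import Groth.Agent.S1535
import Groth.Agent.FibDimLib.Formula
import Groth.Agent.FibDimLib.TopLocalDim
import Groth.Agent.CatLib.Univ
import Groth.Agent.CommAlgDim.GlobalDim

/-!
# Codimension of the support at the points of a scheme over a field
-/

set_option autoImplicit false
set_option linter.style.haveILetI false

universe u

open CategoryTheory AlgebraicGeometry

namespace Groth.Agent.CodimVanishLib

/-- The codimension of the support bounds the local codimensions. -/
theorem supportDim_stalk_add_le {k : Type u} [Field k] {X : Scheme.{u}} (f : X ⟶ Spec (CommRingCat.of k))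
    [LocallyOfFiniteType f] (n : ℕ) (E : X.Modules) (hE : Coh.IsCoh E) (p : ℕ) (x : X)
    (hA : FlatMor.localDim X x = (n : WithBot ℕ∞))
    (hd : topologicalKrullDim (CohB1.support E) + p ≤ (n : WithBot ℕ∞)) :
    Module.supportDim (X.presheaf.stalk x) (E.presheaf.stalk x) + p ≤ ringKrullDim (X.presheaf.stalk x) := by
  by_cases hx : x ∈ CohB1.support E
  · have h2 : ∀ s : Spec (CommRingCat.of k), CAlg.IsUniversallyCatenary ((Spec (CommRingCat.of k)).presheaf.stalk s) := fun s => by
      letI : (Spec (CommRingCat.of k)).Over (Spec (CommRingCat.of k)) := ⟨𝟙 _⟩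
      haveI : Smooth (Spec (CommRingCat.of k) ↘ Spec (CommRingCat.of k)) := inferInstanceAs (Smooth (𝟙 _))
      haveI := Groth.Agent.S1535.result k (Spec (CommRingCat.of k)) s
      haveI := CommAlgDim.isRegularRing_of_isRegularLocalRing ((Spec (CommRingCat.of k)).presheaf.stalk s)
      exact CatLib.isUniversallyCatenary_of_isCMRing CatLib.isCMRing_of_isRegularRing
    haveI : Subsingleton (Spec (CommRingCat.of k) : Scheme.{u}) := inferInstanceAs (Subsingleton (PrimeSpectrum k))
    haveI : JacobsonSpace (Spec (CommRingCat.of k) : Scheme.{u}) := inferInstanceAs (JacobsonSpace (PrimeSpectrum k))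
    have h3 : ∀ S' ∈ irreducibleComponents ((Spec (CommRingCat.of k) : Scheme.{u}) : Type u), ∀ s ∈ S',
        IsClosed ({s} : Set (Spec (CommRingCat.of k) : Scheme.{u})) →
        topologicalKrullDim (↥S' : Type u) =
          topologicalKrullDim ↥{t : (Spec (CommRingCat.of k) : Scheme.{u}) | t ∈ S' ∧ t ⤳ s} := fun S' _ s hs _ => by
      have : {t : (Spec (CommRingCat.of k) : Scheme.{u}) | t ∈ S' ∧ t ⤳ s} = S' := by
        ext t
        rw [Subsingleton.elim t s]
        exact ⟨fun h => h.1, fun h => ⟨h, specializes_rfl⟩⟩
      rw [this]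
    have h := Groth.Agent.S4889.result h2 h3 f E hE x hx
    have hle : FlatMor.localDim (CohB1.support E) ⟨x, hx⟩ + p ≤ (n : WithBot ℕ∞) :=
      (add_le_add (FibDimLib.localDim_le _) le_rfl).trans hd
    rw [FibDimLib.localDim_eq_closure_add_stalk f x] at hA
    rw [← h] at hle
    revert hA hle
    generalize topologicalKrullDim ↥(closure ({x} : Set X)) = c
    generalize ringKrullDim ↑(X.presheaf.stalk x) = r
    generalize Module.supportDim ↑(X.presheaf.stalk x) ↑(E.presheaf.stalk x) = s
    intro hA hle
    induction c using WithBot.recBotCoe with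
    | bot => simp at hA
    | coe c =>
    induction r using WithBot.recBotCoe with
    | bot => simp at hA
    | coe r =>
    induction s using WithBot.recBotCoe with
    | bot => simp
    | coe s =>
    have hA' : c + r = ((n : ℕ) : ℕ∞) := WithBot.coe_inj.1 hA
    have hle' : c + s + (p : ℕ∞) ≤ ((n : ℕ) : ℕ∞) := WithBot.coe_le_coe.1 hle
    refine WithBot.coe_le_coe.2 ?_
    show s + (p : ℕ∞) ≤ r
    induction c using ENat.recTopCoe with
    | top => simp at hA'
    | coe c =>
    induction r using ENat.recTopCoe with
    | top => simp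
    | coe r =>
    induction s using ENat.recTopCoe with
    | top => simp at hle'
    | coe s =>
    norm_cast at hA' hle' ⊢
    omega
  · haveI : Subsingleton (E.presheaf.stalk x) := not_not.1 hx
    rw [Module.supportDim_eq_bot_of_subsingleton]
    simp

end Groth.Agent.CodimVanishLib
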