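import Groth.Agent.ExtStalkLib.Main
import Groth.Agent.ExtTwistSecLib.Main
import Groth.Agent.DualExtLib.Grade

/-!
# Vanishing of Ext below the codimension of the support
-/

set_option autoImplicit false
set_option linter.style.haveILetI false
set_option linter.unusedSectionVars false
set_option backward.isDefEq.respectTransparency false
set_option backward.isDefEq.respectTransparency.types false
set_option maxHeartbeats 1000000

universe u

open CategoryTheory CategoryTheory.Limits AlgebraicGeometry Opposite CategoryTheory.Abelian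
open CohCmpLib (homMod stk evS evMod)
open Groth.Agent.AcycCxLib (sh isFlasque_sh)

attribute [local instance] HasDerivedCategory.standard

noncomputable section

namespace Groth.Agent.CodimVanishLib

variable {X : Scheme.{u}} [IsLocallyNoetherian X]

/-- The stalks of a resolution. -/
def stkRes (x : X) {G : X.Modules} (I : InjectiveResolution G) :
    InjectiveResolution ((DerSch.stalkFunctor X x).obj G) :=
  haveI : PreservesFiniteLimits (DerSch.stalkFunctor X x) := inferInstance
  haveI : PreservesFiniteColimits (DerSch.stalkFunctor X x) := inferInstance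
  haveI : (DerSch.stalkFunctor X x).PreservesHomology := Functor.preservesHomologyOfExact _
  { cocomplex := ((DerSch.stalkFunctor X x).mapHomologicalComplex _).obj I.cocomplex
    injective := fun q =>
      haveI := InjModLib.stalk_injective_of_injective (I.cocomplex.X q) x
      Module.injective_object_of_injective_module _ _
    ι := (HomologicalComplex.singleMapHomologicalComplex (DerSch.stalkFunctor X x) _ 0).inv.app G ≫
      ((DerSch.stalkFunctor X x).mapHomologicalComplex _).map I.ι
    quasiIso := inferInstance }

theorem subsingleton_stalk_hcx (x : X) {F : X.Modules} (hF : Coh.IsCoh F) {G : X.Modules} (I : InjectiveResolution G)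
    (n : ℕ) (h : Subsingleton (Ext (stk F x) (stk G x) n)) :
    Subsingleton (stk ((ExtShLib.hcx F I).homology n) x) := by
  haveI : PreservesFiniteLimits (DerSch.stalkFunctor X x) := inferInstance
  haveI : PreservesFiniteColimits (DerSch.stalkFunctor X x) := inferInstance
  haveI : (DerSch.stalkFunctor X x).PreservesHomology := Functor.preservesHomologyOfExact _
  let C := ExtShLib.hcx F I
  obtain ⟨t⟩ := ExtLinLib.nonempty_homology_iso_ext (k := X.presheaf.stalk x) (X := stk F x) (stkRes x I)
    (((DerSch.stalkFunctor X x).mapHomologicalComplex _).obj C)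
    (fun m => (LinearEquiv.ofBijective (evS (evMod F (I.cocomplex.X m)) x)
      ⟨ExtStalkLib.evS_injective hF _ x, ExtStalkLib.evS_surjective hF _ x⟩).trans
        (ModuleCat.homLinearEquiv (S := X.presheaf.stalk x) (M := stk F x) (N := stk (I.cocomplex.X m) x)).symm)
    (fun m s => by
      refine ModuleCat.hom_ext (LinearMap.ext fun a => ?_)
      show evS (evMod F (I.cocomplex.X (m + 1))) x
          (((DerSch.stalkFunctor X x).map ((PnDualLib.homFun F).map (I.cocomplex.d m (m + 1)))).hom s) a =
        ((DerSch.stalkFunctor X x).map (I.cocomplex.d m (m + 1))).hom (evS (evMod F (I.cocomplex.X m)) x s a)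
      rw [PnDualLib.homFun_map]
      exact ExtStalkLib.evS_natural F (I.cocomplex.d m (m + 1)) x s a) n
  exact @Equiv.subsingleton _ _ (((C.sc n).mapHomologyIso (DerSch.stalkFunctor X x)).symm ≪≫ t).toLinearEquiv.toEquiv h

/-- The Ext sheaves into the structure sheaf vanish below the codimension. -/
theorem isZero_extSh_of_supportDim (F : X.Modules) (hF : Coh.IsCoh F) [HasInjectiveResolutions X.Modules]
    [HasInjectiveResolutions (ModSite.Mod X.sheaf)] [ModSite.HasSheafHom (O := X.sheaf) F] [(sh F).Additive] (p : ℕ)
    (hreg : ∀ x : X, IsRegularLocalRing (X.presheaf.stalk x))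
    (hdim : ∀ x : X, Module.supportDim (X.presheaf.stalk x) (F.presheaf.stalk x) + p ≤
      ringKrullDim (X.presheaf.stalk x))
    (b : ℕ) (hb : b < p) : IsZero (((sh F).rightDerived b).obj (Coh.structureModule X)) := by
  haveI := hF.1
  let J₀ := InjectiveResolution.of (Coh.structureModule X)
  obtain ⟨e⟩ := ExtShLib.nonempty_extSh_iso J₀ F b
  refine (KFlatLib.isZero_of_stalks fun x => subsingleton_stalk_hcx x hF J₀ b ?_).of_iso e
  haveI := hreg x
  haveI : Module.Finite (X.presheaf.stalk x) (F.presheaf.stalk x) := DepthLib.finite_stalk F hF.2 x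
  let ψ : stk (Coh.structureModule X) x ≅ ModuleCat.of (X.presheaf.stalk x) (X.presheaf.stalk x) :=
    (S1063.ψ X x).toModuleIso
  refine subsingleton_of_forall_eq 0 fun y => ?_
  have h1 : y.comp (Ext.mk₀ ψ.hom) (add_zero b) = 0 := DualExtLib.ext_vanishing (F.presheaf.stalk x) p (hdim x) b hb _
  have h2 := congrArg (fun z => Ext.comp z (Ext.mk₀ ψ.inv) (add_zero b)) h1
  simpa using h2

/-- Ext into a locally free module vanishes below the codimension. -/
theorem subsingleton_ext_of_supportDim (k : Type u) [CommRing k] [X.Over (Spec (CommRingCat.of k))] [HasExt.{u} X.Modules]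
    (F : X.Modules) (hF : Coh.IsCoh F) (L : X.Modules) (hL : FlatMod.IsFinLocFree L) (p : ℕ)
    (hreg : ∀ x : X, IsRegularLocalRing (X.presheaf.stalk x))
    (hdim : ∀ x : X, Module.supportDim (X.presheaf.stalk x) (F.presheaf.stalk x) + p ≤
      ringKrullDim (X.presheaf.stalk x))
    (i : ℕ) (hi : i < p) : Subsingleton (Ext F L i) := by
  haveI := hF.1
  haveI : HasInjectiveResolutions X.Modules := by
    haveI : EnoughInjectives X.Modules := IsGrothendieckAbelian.enoughInjectives.{u}
    infer_instance
  haveI : HasInjectiveResolutions (ModSite.Mod X.sheaf) := ‹HasInjectiveResolutions X.Modules›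
  haveI : ModSite.HasSheafHom (O := X.sheaf) F := ((HomCohLib.homAdj F).ofNatIsoLeft (ExtShLib.flipIso F).symm).isLeftAdjoint
  haveI : (sh F).Additive := (ModSite.sheafHomAdj (O := X.sheaf) F).right_adjoint_additive
  let S := ExtTwistSecLib.secFun X k
  have h0 : ∀ b, b < p → IsZero (((sh F).rightDerived b).obj (Coh.structureModule X)) := fun b hb =>
    isZero_extSh_of_supportDim F hF p hreg hdim b hb
  let J := InjectiveResolution.of (CohB1.tensorMod (Coh.structureModule X) L)
  let K : CochainComplex X.Modules ℕ := ((sh F).mapHomologicalComplex _).obj J.cocomplex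
  have hz : ∀ b, b < p → IsZero (K.homology b) := fun b hb => by
    obtain ⟨e⟩ := ExtTwistSecLib.nonempty_extSh_twist F (Coh.structureModule X) hL b
    exact (((HomTwistLib.tR L).map_isZero (h0 b hb)).of_iso e).of_iso (J.isoRightDerivedObj (sh F) b).symm
  have hK : ∀ m q, IsZero ((S.rightDerived (q + 1)).obj (K.X m)) := fun m q => by
    refine ExtTwistSecLib.isZero_rightDerived_secFun (K.X m) (q + 1) ?_
    exact @Equiv.subsingleton _ _ (QCohLib.hEquiv ((QCohLib.toAbF X).obj (K.X m)) (q + 1)).toEquiv
      (@QCohLib.subsingleton_of_isFlasque _ q _ (isFlasque_sh F (J.cocomplex.X m)) ⊤)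
  haveI : ∀ q, (S.rightDerived q).Additive := fun q => inferInstance
  obtain ⟨h⟩ := AcycCxLib.nonempty_homology_iso S hK (N := i)
    (fun b hb q => (S.rightDerived (q + 1)).map_isZero (hz b (lt_of_le_of_lt hb hi))) i le_rfl
  obtain ⟨e⟩ := ExtLinLib.nonempty_homology_iso_ext (k := k) (X := F) J ((S.mapHomologicalComplex _).obj K)
    (fun m => (ExtTwistSecLib.fromF (A := k) F (J.cocomplex.X m)).symm) (fun m x => by
      apply (ExtTwistSecLib.fromF (A := k) F (J.cocomplex.X (m + 1))).injective
      refine (LinearEquiv.apply_symm_apply (ExtTwistSecLib.fromF (A := k) F (J.cocomplex.X (m + 1))) _).trans ?_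
      refine Eq.trans ?_ (ExtTwistSecLib.fromF_comp (A := k) F _ _).symm
      exact congrArg (fun t => t ≫ (sh F).map (J.cocomplex.d m (m + 1)))
        (LinearEquiv.apply_symm_apply (ExtTwistSecLib.fromF (A := k) F (J.cocomplex.X m)) x).symm) i
  have hsub : Subsingleton (Ext F (CohB1.tensorMod (Coh.structureModule X) L) i) :=
    ModuleCat.subsingleton_of_isZero ((S.map_isZero (hz i hi)).of_iso (h ≪≫ e).symm)
  refine subsingleton_of_forall_eq 0 fun y => ?_
  have h2 := congrArg (fun z => Ext.comp z (Ext.mk₀ (KFlatLib.tensUnitIso L).hom) (add_zero i))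
    (@Subsingleton.elim _ hsub (y.comp (Ext.mk₀ (KFlatLib.tensUnitIso L).inv) (add_zero i)) 0)
  simpa using h2

end Groth.Agent.CodimVanishLib

end
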